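import Groth.Agent.PnDualLib.ConnSec
import Groth.Agent.SecDivLib.Zero
import Groth.Agent.RelDualLib.Bundle
import Groth.Agent.AmpleDevLib.Pull
import Groth.Agent.ModPairLib.Basic
import Groth.Agent.LocFFLib.Norm
import Groth.Agent.ModifLib.Norm
import Groth.Agent.DeltaBaseLib.Main
import Groth.Agent.DevissLib.ClosedImm
import Groth.Agent.AlgSpRegLib.Divisor
import Groth.Agent.FibDimLib.Formula
import Groth.Agent.FibDimLib.Comps
import Groth.Agent.AbSchLib.DimFinite
import Groth.Prelude.Def_FGA

/-!
# The support of an ample effective divisor on a proper irreducible surface is connected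

Pull the divisor back to the normalization of the reduced surface: there the section cutting it out is
regular and the depth at closed points is two, so its zero scheme is connected.
-/

set_option autoImplicit false
set_option linter.style.haveILetI false
set_option linter.unusedSectionVars false
set_option maxHeartbeats 1000000
set_option backward.isDefEq.respectTransparency false
set_option backward.isDefEq.respectTransparency.types false
universe u

open CategoryTheory CategoryTheory.Limits AlgebraicGeometry TopologicalSpace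

noncomputable section

namespace EffDivSurfLib

/-- An effective Cartier divisor on a nonempty scheme is not everything. -/
theorem nonempty_interior {X : Scheme.{u}} {K : X.IdealSheafData} (hK : BlowUp.IsEffCartierIdeal K) (x : X) :
    ∃ y : X, y ∈ ModPair.interior K := by
  obtain ⟨U, hxU, f, hf, -, hb⟩ := ModPairLib.exists_gen_basicOpen hK x
  by_contra h
  push Not at h
  have h0 : X.basicOpen f = ⊥ := by
    rw [← hb, eq_bot_iff]
    exact fun y hy => (h y hy.1).elim
  obtain ⟨n, hn⟩ := (X.isNilpotent_iff_basicOpen_eq_bot_of_isCompact U.2.isCompact f).2 h0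
  have h1 : (0 : Γ(X, U.1)) ∈ nonZeroDivisors Γ(X, U.1) := hn ▸ pow_mem hf n
  haveI : Nontrivial Γ(X, U.1) := by
    haveI : Nonempty U.1 := ⟨⟨x, hxU⟩⟩
    infer_instance
  exact one_ne_zero (α := Γ(X, U.1)) ((mem_nonZeroDivisors_iff_right.mp h1) 1 (mul_zero 1))

/-- An effective Cartier divisor pulls back to one along a surjection from an integral scheme onto
an irreducible one. -/
theorem isEffCartier_comap {X Z : Scheme.{u}} [IsIntegral Z] {K : X.IdealSheafData}
    (hK : BlowUp.IsEffCartierIdeal K) (g : Z ⟶ X) [Surjective g] :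
    BlowUp.IsEffCartierIdeal (K.comap g) := by
  obtain ⟨y, hy⟩ := nonempty_interior hK (g (genericPoint Z))
  obtain ⟨z₀, hz₀⟩ := g.surjective y
  have hη : genericPoint Z ∈ g ⁻¹ᵁ ModPair.interior K :=
    ((genericPoint_spec Z).mem_open_set_iff (g ⁻¹ᵁ ModPair.interior K).2).2
      ⟨z₀, trivial, show g z₀ ∈ ModPair.interior K from hz₀ ▸ hy⟩
  intro z
  obtain ⟨U, hxU, f, -, hU, hb⟩ := ModPairLib.exists_gen_basicOpen hK (g z)
  obtain ⟨V, hV, hzV, e⟩ := exists_isAffineOpen_mem_and_subset (U := g ⁻¹ᵁ U.1) (x := z) hxU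
  have e' : V ≤ g ⁻¹ᵁ U.1 := e
  haveI : Nonempty V := ⟨⟨z, hzV⟩⟩
  refine ⟨⟨V, hV⟩, hzV, (g.appLE U.1 V e').hom f, mem_nonZeroDivisors_of_ne_zero fun h0 => ?_,
    by rw [Groth.Agent.S4666.ideal_comap_eq _ g U ⟨V, hV⟩ e', hU, Ideal.map_span, Set.image_singleton]⟩
  have hηV : genericPoint Z ∈ V := ((genericPoint_spec Z).mem_open_set_iff V.2).2 ⟨z, trivial, hzV⟩
  have h1 : genericPoint Z ∈ Z.basicOpen ((g.appLE U.1 V e').hom f) := by
    rw [Scheme.basicOpen_appLE]
    refine ⟨hηV, ?_⟩
    show g (genericPoint Z) ∈ X.basicOpen f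
    rw [← hb]
    exact ⟨hη, e' hηV⟩
  rw [h0, Scheme.basicOpen_zero] at h1
  exact h1

/-- A normal integral surface has depth two at closed points. -/
theorem two_le_depth_normal_surface {k : Type u} [Field k] {Z : Scheme.{u}} (q : Z ⟶ Spec (CommRingCat.of k))
    [LocallyOfFiniteType q] [IsIntegral Z] (hn : Pi1.IsNormalScheme Z) (hdim : topologicalKrullDim Z = 2)
    (x : Z) (hx : IsClosed ({x} : Set Z)) :
    (2 : ℕ∞) ≤ LocCoh.depth (Z.presheaf.stalk x) (Z.presheaf.stalk x) := by
  haveI : IsLocallyNoetherian Z := LocallyOfFiniteType.isLocallyNoetherian q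
  haveI : IsDomain (Z.presheaf.stalk x) := (hn x).1
  haveI : IsIntegrallyClosed (Z.presheaf.stalk x) := (hn x).2
  have hd : ringKrullDim (Z.presheaf.stalk x) = 2 := by
    rw [← FibDimLib.localDim_eq_stalk_of_isClosed q hx, FibDimLib.localDim_of_irreducible q x, hdim]
  have h := AlgSpRegLib.min_two_le_depth_of_normal (Z.presheaf.stalk x)
  rw [hd] at h
  norm_num at h
  exact WithBot.coe_le_coe.1 h

/-- An irreducible proper scheme receives a finite surjection from a normal integral one. -/
theorem exists_normal_cover {k : Type u} [Field k] {X : Scheme.{u}} (q : X ⟶ Spec (CommRingCat.of k))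
    [IsProper q] [IrreducibleSpace X] :
    ∃ (Z : Scheme.{u}) (g : Z ⟶ X), IsFinite g ∧ Surjective g ∧ IsIntegral Z ∧ Pi1.IsNormalScheme Z := by
  let T := Scheme.IdealSheafData.vanishingIdeal (⊤ : TopologicalSpace.Closeds X)
  haveI : AlgebraicGeometry.IsReduced T.subscheme := DevissLib.isReduced_vanishingIdeal' _
  have hT : Surjective T.subschemeι := ⟨Set.range_eq_univ.1
    (T.range_subschemeι.trans (Scheme.IdealSheafData.coe_support_vanishingIdeal ⊤))⟩
  haveI := hT
  haveI : IrreducibleSpace T.subscheme := by
    have e : T.subscheme ≃ₜ X := (T.subschemeι.isClosedEmbedding.isEmbedding.toHomeomorphOfSurjective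
      T.subschemeι.surjective)
    exact (e.symm.surjective).irreducibleSpace e.symm.continuous
  haveI : IsIntegral T.subscheme := isIntegral_of_irreducibleSpace_of_isReduced _
  let r := T.subschemeι ≫ q
  haveI : IsLocallyNoetherian T.subscheme := LocallyOfFiniteType.isLocallyNoetherian r
  haveI : CompactSpace T.subscheme := QuasiCompact.compactSpace_of_compactSpace r
  haveI : QuasiCompact (T.subscheme.fromSpecStalk (genericPoint T.subscheme)) := inferInstance
  haveI : QuasiSeparated (T.subscheme.fromSpecStalk (genericPoint T.subscheme)) := inferInstance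
  have hNk : ∀ U : (Spec (CommRingCat.of k)).affineOpens, CAlg.IsNagata Γ(Spec (CommRingCat.of k), U.1) :=
    fun U => Groth.Agent.S9833.result (Spec (CommRingCat.of k)) (fun _ : PUnit.{u+1} => ⊤) iSup_const
      (fun _ => isAffineOpen_top _) (fun _ => by
        letI := ((Scheme.ΓSpecIso (CommRingCat.of k)).inv.hom).toAlgebra
        haveI : Algebra.FiniteType k Γ(Spec (CommRingCat.of k), ⊤) :=
          RingHom.FiniteType.of_surjective _
            (ConcreteCategory.bijective_of_isIso (Scheme.ΓSpecIso (CommRingCat.of k)).inv).2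
        exact Groth.Agent.S0566.result k (DeltaBaseLib.isNagata_of_field k) Γ(Spec (CommRingCat.of k), ⊤)) U.1 U.2
  haveI : IsFinite (Curv2.normalizationι T.subscheme) :=
    ModifLib.isFinite_normalizationι T.subscheme (ModifLib.isNagata_affineOpens r hNk)
  haveI : Surjective (Curv2.normalizationι T.subscheme) := by
    refine ⟨fun y => ?_⟩
    have hc : IsClosed (Set.range (Curv2.normalizationι T.subscheme)) :=
      (Curv2.normalizationι T.subscheme).isClosedMap.isClosed_range
    exact ((genericPoint_spec T.subscheme).mem_closed_set_iff hc).1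
      ⟨_, (LocFFLib.normalization_bir T.subscheme).1⟩ (trivial : y ∈ (⊤ : Set T.subscheme))
  exact ⟨_, Curv2.normalizationι T.subscheme ≫ T.subschemeι, inferInstance, inferInstance,
    inferInstance, LocFFLib.normalization_isNormal _⟩

/-- The support of an ample effective Cartier divisor on a proper irreducible surface is connected. -/
theorem isPreconnected_support {k : Type u} [Field k] {X : Scheme.{u}}
    [X.Over (Spec (CommRingCat.of k))] [IsProper (X ↘ Spec (CommRingCat.of k))] [IrreducibleSpace X]
    (hdim : topologicalKrullDim X = 2) {I : X.IdealSheafData} (hI : BlowUp.IsEffCartierIdeal I) {L : X.Modules}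
    (hL : ClSub.IsInverseOf L (ClSub.idealMod I)) (hamp : CohB1.IsAmple L) :
    _root_.IsPreconnected (I.support : Set X) := by
  obtain ⟨Z, g, hfin, hsurj, hint, hn⟩ := exists_normal_cover (X ↘ Spec (CommRingCat.of k))
  letI : Z.Over (Spec (CommRingCat.of k)) := ⟨g ≫ X ↘ Spec (CommRingCat.of k)⟩
  haveI : IsProper (Z ↘ Spec (CommRingCat.of k)) :=
    inferInstanceAs (IsProper (g ≫ X ↘ Spec (CommRingCat.of k)))
  obtain ⟨s, hs⟩ := SecDivLib.exists_secHom hamp.1 hI hL
  have hz : PicF2.zeroScheme (KFlatLib.pb g L) (SecDivLib.pbSec g s) = I.comap g := by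
    rw [SecDivLib.zeroScheme_pbSec g hamp.1 s, hs]
  haveI : Mono (SecDivLib.pbSec g s) :=
    RelDualLib.mono_of_zeroScheme (AmpleDevLib.isInvertible_pb g hamp.1) (isEffCartier_comap hI g) _ hz
  have hdimZ : topologicalKrullDim Z = 2 := (AbSchLib.topologicalKrullDim_eq_of_finite_surjective g).trans hdim
  have hcon := PnDualLib.connectedSpace_zeroScheme k (AmpleDevLib.isAmple_pb g hamp.1 hamp) (SecDivLib.pbSec g s)
    (two_le_depth_normal_surface (Z ↘ Spec (CommRingCat.of k)) hn hdimZ)
  rw [hz] at hcon
  haveI := hcon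
  have h1 : _root_.IsPreconnected (Set.range (I.comap g).subschemeι) :=
    (isPreconnected_range (I.comap g).subschemeι.continuous)
  rw [(I.comap g).range_subschemeι, Scheme.IdealSheafData.support_comap] at h1
  have h2 := h1.image g g.continuous.continuousOn
  rwa [TopologicalSpace.Closeds.coe_preimage, Set.image_preimage_eq _ g.surjective] at h2

end EffDivSurfLib
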